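import Groth.Agent.Lib.LocImm12.Local
import Groth.Agent.Lib.EffCartier.Dense
import Groth.Agent.S0384
import Groth.Agent.S7803
import Groth.Agent.S9812
import Groth.Prelude.Def_Pi1
import Mathlib.AlgebraicGeometry.Geometrically.Connected

/-!
# A properness criterion by geometric fibres over a normal base
-/

set_option autoImplicit false
set_option backward.isDefEq.respectTransparency false
set_option linter.style.haveILetI false
universe u

open CategoryTheory CategoryTheory.Limits AlgebraicGeometry TopologicalSpace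

namespace Groth.Agent.ProperCrit12

variable {X Xb Y : Scheme.{u}}

/-- `j` base changed to a geometric point: an open immersion with closed range. -/
theorem exists_geometric (j : X ⟶ Xb) [IsOpenImmersion j] (g : Xb ⟶ Y) [IsSeparated g]
    {T : Scheme.{u}} (y : T ⟶ Y) (h : IsProper (pullback.snd (j ≫ g) y)) :
    ∃ jT : pullback (j ≫ g) y ⟶ pullback g y, IsOpenImmersion jT ∧ IsClosed (Set.range jT) ∧
      Set.range jT = pullback.fst g y ⁻¹' Set.range j := by
  let jT := pullback.map (j ≫ g) y g y j (𝟙 T) (𝟙 Y) (by simp) (by simp)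
  haveI : IsProper (jT ≫ pullback.snd g y) := by
    have e : jT ≫ pullback.snd g y = pullback.snd (j ≫ g) y := by simp [jT]
    rw [e]; exact h
  haveI : IsProper jT := IsProper.of_comp jT (pullback.snd g y)
  refine ⟨jT, inferInstance, jT.isClosedMap.isClosed_range, ?_⟩
  show Set.range (pullback.map (j ≫ g) y g y j (𝟙 T) (𝟙 Y) (by simp) (by simp)) = _
  rw [Scheme.Pullback.range_map]
  ext z
  simp

theorem connectedSpace_geometric_generic [IsIntegral Xb] [IsIntegral X] [IsIntegral Y] (j : X ⟶ Xb) [IsOpenImmersion j] [IsDominant j] (g : Xb ⟶ Y) [IsProper g] [IsDominant g]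
    (hfib : ∀ (Ω : Type u) [Field Ω] [IsAlgClosed Ω] (y : Spec (CommRingCat.of Ω) ⟶ Y),
      IsProper (pullback.snd (j ≫ g) y) ∧ ConnectedSpace ↥(pullback (j ≫ g) y))
    (Ω : Type u) [Field Ω] [IsAlgClosed Ω] (φ : Y.residueField (genericPoint Y) ⟶ CommRingCat.of Ω) :
    ConnectedSpace ↥(pullback g (Spec.map φ ≫ Y.fromSpecResidueField (genericPoint Y))) := by
  let η := genericPoint Y
  revert φ
  intro φ
  let y := Spec.map φ ≫ Y.fromSpecResidueField η
  obtain ⟨jT, hjT, hcl, hr⟩ := exists_geometric j g y (hfib Ω y).1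
  haveI : Flat y := by
    haveI : Flat (Y.fromSpecStalk η) :=
      LocImm12.flat_of_isLocalizing (LocImm12.isLocImmersion_fromSpecStalk η).1
    haveI : Flat (Spec.map (Y.residue η)) :=
      Flat.SpecMap_iff.2 (letI := (Y.residue η).hom.toAlgebra; (inferInstance : Module.Flat Y.functionField (Y.residueField η)))
    haveI : Flat (Spec.map φ) :=
      Flat.SpecMap_iff.2 (letI := φ.hom.toAlgebra; (inferInstance : Module.Flat (Y.residueField η) Ω))
    show Flat (Spec.map φ ≫ Spec.map (Y.residue η) ≫ Y.fromSpecStalk η)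
    infer_instance
  haveI : Flat (pullback.fst g y) := MorphismProperty.pullback_fst g y ‹Flat y›
  have hall : Function.Surjective jT := fun z => by
    obtain ⟨z', hz', hz'g⟩ := Flat.generalizingMap (pullback.fst g y)
      (genericPoint_specializes (pullback.fst g y z))
    have : z' ∈ Set.range jT := by
      rw [hr]
      show pullback.fst g y z' ∈ Set.range j
      rw [hz'g]
      obtain ⟨w, hw, x, rfl⟩ := j.denseRange.inter_open_nonempty _ j.opensRange.2 ⟨j (genericPoint X), ⟨_, rfl⟩⟩
      exact (genericPoint_specializes _).mem_open j.opensRange.2 ⟨genericPoint X, rfl⟩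
    exact hz'.mem_closed hcl this
  haveI := (hfib Ω y).2
  exact hall.connectedSpace jT.continuous

theorem geometricallyConnected_generic [IsIntegral Xb] [IsIntegral X] [IsIntegral Y] (j : X ⟶ Xb) [IsOpenImmersion j] [IsDominant j] (g : Xb ⟶ Y) [IsProper g] [IsDominant g]
    (hfib : ∀ (Ω : Type u) [Field Ω] [IsAlgClosed Ω] (y : Spec (CommRingCat.of Ω) ⟶ Y),
      IsProper (pullback.snd (j ≫ g) y) ∧ ConnectedSpace ↥(pullback (j ≫ g) y)) :
    GeometricallyConnected (g.fiberToSpecResidueField (genericPoint Y)) := by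
  let η := genericPoint Y
  have hgen := @connectedSpace_geometric_generic X Xb Y _ _ _ j _ _ g _ _ hfib
  refine ⟨geometrically_iff_of_isClosedUnderIsomorphisms.2 fun K _ yK => ?_⟩
  let Ω := AlgebraicClosure K
  let a : Spec (CommRingCat.of Ω) ⟶ Spec (CommRingCat.of K) := Spec.map (CommRingCat.ofHom (algebraMap K Ω))
  haveI : Surjective a := ⟨fun z => ⟨IsLocalRing.closedPoint Ω, Subsingleton.elim _ _⟩⟩
  obtain ⟨φ, hφ⟩ := Spec.map_surjective (a ≫ yK)
  haveI := hgen Ω φ
  let e : pullback (pullback.snd g (Y.fromSpecResidueField η)) (a ≫ yK) ≅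
      pullback g (Spec.map φ ≫ Y.fromSpecResidueField η) :=
    pullbackLeftPullbackSndIso g (Y.fromSpecResidueField η) (a ≫ yK) ≪≫ pullback.congrHom rfl (by rw [hφ])
  let m : pullback (pullback.snd g (Y.fromSpecResidueField η)) (a ≫ yK) ⟶
      pullback (pullback.snd g (Y.fromSpecResidueField η)) yK :=
    pullback.map _ _ _ _ (𝟙 _) a (𝟙 _) (by simp) (by simp)
  haveI : Surjective m := by
    constructor
    intro z
    have : z ∈ Set.range m := by
      show z ∈ Set.range (pullback.map _ _ _ _ (𝟙 _) a (𝟙 _) _ _)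
      rw [Scheme.Pullback.range_map]
      exact ⟨⟨_, rfl⟩, a.surjective _⟩
    exact this
  show ConnectedSpace ↥(pullback (g.fiberToSpecResidueField η) yK)
  haveI : ConnectedSpace ↥(pullback (pullback.snd g (Y.fromSpecResidueField η)) (a ≫ yK)) :=
    e.inv.homeomorph.surjective.connectedSpace e.inv.continuous
  exact m.surjective.connectedSpace m.continuous

theorem isIso_of_geometric [IsIntegral Xb] [IsIntegral X] [IsIntegral Y] (j : X ⟶ Xb) [IsOpenImmersion j] [IsDominant j] (g : Xb ⟶ Y) [IsProper g] [IsDominant g]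
    (hfib : ∀ (Ω : Type u) [Field Ω] [IsAlgClosed Ω] (y : Spec (CommRingCat.of Ω) ⟶ Y),
      IsProper (pullback.snd (j ≫ g) y) ∧ ConnectedSpace ↥(pullback (j ≫ g) y))
    (hY : Pi1.IsNormalScheme Y) : IsIso j := by
  haveI : GeometricallyConnected g := Groth.Agent.S7803.result g
    (fun s => @Groth.Agent.S9812.result _ _ _ (hY s).1 (hY s).2) (geometricallyConnected_generic j g hfib)
  -- nothing is added
  haveI : Surjective j := ⟨fun z => by
    let s := g z
    let Ω := AlgebraicClosure (Y.residueField s)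
    let y : Spec (CommRingCat.of Ω) ⟶ Y :=
      Spec.map (CommRingCat.ofHom (algebraMap (Y.residueField s) Ω)) ≫ Y.fromSpecResidueField s
    haveI := GeometricallyConnected.geometrically_connectedSpace (f := g) y _ _ (IsPullback.of_hasPullback g y)
    haveI := (hfib Ω y).2
    obtain ⟨jT, hjT, hcl, hr⟩ := exists_geometric j g y (hfib Ω y).1
    have huniv : Set.range jT = Set.univ :=
      IsClopen.eq_univ ⟨hcl, jT.isOpenEmbedding.isOpen_range⟩ (Set.range_nonempty _)
    obtain ⟨w, hw, -⟩ := Scheme.Pullback.exists_preimage_pullback (f := g) (g := y) z (IsLocalRing.closedPoint Ω)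
      (Scheme.fromSpecResidueField_apply s _).symm
    have hwr : w ∈ pullback.fst g y ⁻¹' Set.range j := hr ▸ huniv ▸ trivial
    obtain ⟨x, hx⟩ := hwr
    exact ⟨x, hx.trans hw⟩⟩
  haveI : Epi j.base := by rw [TopCat.epi_iff_surjective]; exact j.surjective
  exact IsOpenImmersion.isIso j

/-- A compactification with dense image. -/
theorem exists_dense_compactification [IsReduced X] [IsNoetherian Y] (f : X ⟶ Y) [IsSeparated f]
    [LocallyOfFiniteType f] [QuasiCompact f] :
    ∃ (P : Scheme.{u}) (j : X ⟶ P) (g : P ⟶ Y), IsReduced P ∧ IsOpenImmersion j ∧ IsDominant j ∧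
      IsProper g ∧ j ≫ g = f := by
  obtain ⟨Xc, jc, gc, hjc, hjcq, hgc, hfac⟩ := Groth.Agent.S0384.result f
  haveI : IsSchemeTheoreticallyDominant jc.toImage := EffCartier.dominant_toImage jc
  exact ⟨jc.image, jc.toImage, jc.imageι ≫ gc, IsSchemeTheoreticallyDominant.isReduced jc.toImage,
    inferInstance, inferInstance, inferInstance, by rw [Scheme.Hom.toImage_imageι_assoc, hfac]⟩

theorem isProper_of_geometric [IsIntegral X] [IsIntegral Y] [IsNoetherian Y] (hY : Pi1.IsNormalScheme Y)
    (f : X ⟶ Y) [IsSeparated f] [LocallyOfFiniteType f] [QuasiCompact f]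
    (hfib : ∀ (Ω : Type u) [Field Ω] [IsAlgClosed Ω] (y : Spec (CommRingCat.of Ω) ⟶ Y),
      IsProper (pullback.snd f y) ∧ ConnectedSpace ↥(pullback f y)) : IsProper f := by
  obtain ⟨P, j, g, hP, hjo, hjd, hg, rfl⟩ := exists_dense_compactification f
  haveI : IrreducibleSpace P := by
    have h := ((IrreducibleSpace.isIrreducible_univ X).image j j.continuous.continuousOn).closure
    rw [Set.image_univ, j.denseRange.closure_range] at h
    exact { toPreirreducibleSpace := ⟨h.2⟩, toNonempty := ⟨j (genericPoint X)⟩ }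
  haveI : IsIntegral P := isIntegral_of_irreducibleSpace_of_isReduced _
  -- every point of `Y` is in the image
  have hsurj : ∀ s : Y, ∃ x : X, (j ≫ g) x = s := fun s => by
    let Ω := AlgebraicClosure (Y.residueField s)
    let y : Spec (CommRingCat.of Ω) ⟶ Y :=
      Spec.map (CommRingCat.ofHom (algebraMap (Y.residueField s) Ω)) ≫ Y.fromSpecResidueField s
    obtain ⟨w⟩ := (hfib Ω y).2.toNonempty
    refine ⟨pullback.fst (j ≫ g) y w, ?_⟩
    have hy : ∀ c, y c = s := fun c => by
      simp only [y, Scheme.Hom.comp_apply]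
      exact Scheme.fromSpecResidueField_apply s _
    rw [← Scheme.Hom.comp_apply, pullback.condition, Scheme.Hom.comp_apply]
    exact hy _
  haveI : IsDominant g := ⟨(Function.Surjective.denseRange fun s => by
    obtain ⟨x, hx⟩ := hsurj s
    exact ⟨j x, hx⟩)⟩
  haveI := isIso_of_geometric j g hfib hY
  infer_instance

end Groth.Agent.ProperCrit12
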